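import Cfsg.Agent.H691.L34.Def

/-!
# S5917, part I: the dimensions of all modules (I-PL) (helper100)

`PL_of` : the statement `PL` of `H691/L34/Stubs.lean` from `simp_cases` and `nine_dims`.
-/

set_option autoImplicit false

namespace Cfsg.Agent.H100.EL

open Matrix Cfsg.Agent.H691.L34

variable {F : Type} [Field F]

section

variable {V : Type} [AddCommGroup V] [Module (ZMod 2) V] {ρ : Representation (ZMod 2) (G3 F) V}

/-- the quotient representation -/
def qrep (ρ : Representation (ZMod 2) (G3 F) V) {A : Submodule (ZMod 2) V} (hA : Inv ρ A) :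
    Representation (ZMod 2) (G3 F) (V ⧸ A) where
  toFun g := A.mapQ A (ρ g) fun v hv => hA g v hv
  map_one' := by
    apply LinearMap.ext
    intro x
    obtain ⟨x, rfl⟩ := Submodule.Quotient.mk_surjective _ x
    rw [Submodule.mapQ_apply, map_one]; rfl
  map_mul' a b := by
    apply LinearMap.ext
    intro x
    obtain ⟨x, rfl⟩ := Submodule.Quotient.mk_surjective _ x
    rw [Submodule.mapQ_apply, map_mul]; rfl

theorem qrep_mk {A : Submodule (ZMod 2) V} (hA : Inv ρ A) (g : G3 F) (v : V) :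
    qrep ρ hA g (Submodule.Quotient.mk v) = Submodule.Quotient.mk (ρ g v) := rfl

theorem mem_fx {g : G3 F} {W : Submodule (ZMod 2) V} {v : V} : v ∈ fx ρ g W ↔ v ∈ W ∧ ρ g v = v := by
  rw [fx, Submodule.mem_inf, LinearMap.mem_ker, LinearMap.sub_apply, LinearMap.id_apply, sub_eq_zero]

/-- fixed vectors lift for elements of odd order -/
theorem exists_lift {A B : Submodule (ZMod 2) V} (hA : Inv ρ A) (hB : Inv ρ B) (hAB : A ≤ B) {g : G3 F}
    (hg : Odd (orderOf g)) {b : V} (hb : b ∈ B) (h : ρ g b - b ∈ A) : ∃ v ∈ fx ρ g B, v - b ∈ A := by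
  have hpow : ∀ i : ℕ, (ρ g ^ i) b ∈ B ∧ (ρ g ^ i) b - b ∈ A := by
    intro i
    induction i with
    | zero => exact ⟨by simpa using hb, by simp⟩
    | succ i ih =>
      rw [pow_succ', Module.End.mul_apply]
      refine ⟨hB g _ ih.1, ?_⟩
      have h1 : ρ g ((ρ g ^ i) b) - b = ρ g ((ρ g ^ i) b - b) + (ρ g b - b) := by rw [map_sub]; abel
      rw [h1]
      exact A.add_mem (hA g _ ih.2) h
  refine ⟨∑ i ∈ Finset.range (orderOf g), (ρ g ^ i) b, ?_, ?_⟩
  · rw [mem_fx]
    refine ⟨Submodule.sum_mem _ fun i _ => (hpow i).1, ?_⟩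
    rw [map_sum]
    have h1 : ∀ i, ρ g ((ρ g ^ i) b) = (ρ g ^ (i + 1)) b := fun i => by rw [pow_succ', Module.End.mul_apply]
    simp only [h1]
    have h2 := Finset.sum_range_succ (fun i => (ρ g ^ i) b) (orderOf g)
    have h3 := Finset.sum_range_succ' (fun i => (ρ g ^ i) b) (orderOf g)
    have h4 : (ρ g ^ orderOf g) b = b := by rw [← map_pow, pow_orderOf_eq_one, map_one]; rfl
    rw [h2] at h3
    rw [h4] at h3
    have h5 : (ρ g ^ 0) b = b := by rw [pow_zero]; rfl
    rw [h5] at h3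
    exact (add_right_cancel h3).symm
  · have h1 : ∀ n : ℕ, (∑ i ∈ Finset.range n, (ρ g ^ i) b) - n • b ∈ A := by
      intro n
      induction n with
      | zero => simp
      | succ n ih =>
        rw [Finset.sum_range_succ, succ_nsmul]
        have h2 : (∑ i ∈ Finset.range n, (ρ g ^ i) b) + (ρ g ^ n) b - (n • b + b) =
            ((∑ i ∈ Finset.range n, (ρ g ^ i) b) - n • b) + ((ρ g ^ n) b - b) := by abel
        rw [h2]
        exact A.add_mem ih (hpow n).2
    have h2 := h1 (orderOf g)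
    have h3 : orderOf g • b = b := by
      obtain ⟨k, hk⟩ := hg
      have h4 : (2 : ℕ) • b = 0 := by
        rw [← Nat.cast_smul_eq_nsmul (ZMod 2)]
        have : ((2 : ℕ) : ZMod 2) = 0 := rfl
        rw [this, zero_smul]
      rw [hk, succ_nsmul, mul_comm, mul_nsmul', h4, nsmul_zero, zero_add]
    rwa [h3] at h2

variable [Module.Finite (ZMod 2) V]

/-- dimensions of fixed spaces are additive -/
theorem fx_quot {A B : Submodule (ZMod 2) V} (hA : Inv ρ A) (hB : Inv ρ B) (hAB : A ≤ B) {g : G3 F}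
    (hg : Odd (orderOf g)) : Module.finrank (ZMod 2) (fx ρ g B) =
      Module.finrank (ZMod 2) (fx ρ g A) + Module.finrank (ZMod 2) (fx (qrep ρ hA) g (B.map A.mkQ)) := by
  have h1 : LinearMap.range (A.mkQ.domRestrict (fx ρ g B)) = fx (qrep ρ hA) g (B.map A.mkQ) := by
    ext x
    constructor
    · rintro ⟨⟨v, hv⟩, rfl⟩
      rw [mem_fx] at hv
      rw [mem_fx]
      refine ⟨⟨v, hv.1, rfl⟩, ?_⟩
      change qrep ρ hA g (Submodule.Quotient.mk v) = Submodule.Quotient.mk v
      rw [qrep_mk, hv.2]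
    · intro hx
      rw [mem_fx] at hx
      obtain ⟨⟨b, hb, rfl⟩, h2⟩ := hx
      change qrep ρ hA g (Submodule.Quotient.mk b) = Submodule.Quotient.mk b at h2
      rw [qrep_mk, Submodule.Quotient.eq] at h2
      obtain ⟨v, hv, hvb⟩ := exists_lift hA hB hAB hg hb h2
      exact ⟨⟨v, hv⟩, (Submodule.Quotient.eq _).2 hvb⟩
  have h2 := LinearMap.finrank_range_add_finrank_ker (A.mkQ.domRestrict (fx ρ g B))
  have h3 : LinearMap.ker (A.mkQ.domRestrict (fx ρ g B)) = (fx ρ g A).comap (fx ρ g B).subtype := by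
    ext ⟨v, hv⟩
    rw [LinearMap.mem_ker, Submodule.mem_comap, mem_fx]
    change Submodule.Quotient.mk v = 0 ↔ _
    rw [Submodule.Quotient.mk_eq_zero]
    exact ⟨fun h => ⟨h, (mem_fx.1 hv).2⟩, fun h => h.1⟩
  have h4 : fx ρ g A ≤ fx ρ g B := fun v hv => by
    rw [mem_fx] at hv ⊢
    exact ⟨hAB hv.1, hv.2⟩
  rw [h1, h3, (Submodule.comapSubtypeEquivOfLe h4).finrank_eq] at h2
  omega

theorem rank_quot {A B : Submodule (ZMod 2) V} (hAB : A ≤ B) : Module.finrank (ZMod 2) B =
    Module.finrank (ZMod 2) A + Module.finrank (ZMod 2) (B.map A.mkQ) := by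
  have h2 := LinearMap.finrank_range_add_finrank_ker (A.mkQ.domRestrict B)
  have h1 : LinearMap.range (A.mkQ.domRestrict B) = B.map A.mkQ := by
    rw [LinearMap.range_domRestrict]
  have h3 : LinearMap.ker (A.mkQ.domRestrict B) = A.comap B.subtype := by
    rw [LinearMap.ker_domRestrict, Submodule.ker_mkQ]
  rw [h1, h3, (Submodule.comapSubtypeEquivOfLe hAB).finrank_eq] at h2
  omega

end

omit [Field F] in
theorem map_mkQ_bot {V : Type} [AddCommGroup V] [Module (ZMod 2) V] {A B : Submodule (ZMod 2) V} :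
    B.map A.mkQ = ⊥ ↔ B ≤ A := by
  constructor
  · intro h v hv
    have h1 : A.mkQ v ∈ B.map A.mkQ := ⟨v, hv, rfl⟩
    rw [h, Submodule.mem_bot] at h1
    exact (Submodule.Quotient.mk_eq_zero _).1 h1
  · intro h
    rw [eq_bot_iff]
    rintro _ ⟨v, hv, rfl⟩
    exact (Submodule.Quotient.mk_eq_zero _).2 (h hv)

/-- statement `simp_cases` -/
def SimpCases (F : Type) [Field F] [Fintype F] : Prop :=
  ∀ {V : Type} [AddCommGroup V] [Module (ZMod 2) V] [Module.Finite (ZMod 2) V] {ρ : Representation (ZMod 2) (G3 F) V}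
    (_ : CT ρ) {W : Submodule (ZMod 2) V} (_ : Simp ρ W),
    (∀ v ∈ W, ∀ g, ρ g v = v) ∨ IsNine ρ false W ∨ IsNine ρ true W ∨ Is16 ρ W ∨ Is64 ρ W

/-- statement `nine_dims` -/
def NineDims (F : Type) [Field F] [Fintype F] : Prop :=
  ∀ {V : Type} [AddCommGroup V] [Module (ZMod 2) V] [Module.Finite (ZMod 2) V] {ρ : Representation (ZMod 2) (G3 F) V}
    {b : Bool} {W : Submodule (ZMod 2) V} (_ : IsNine ρ b W), Dims ρ W 9 3 1 0

variable [Fintype F] {V : Type} [AddCommGroup V] [Module (ZMod 2) V] [Module.Finite (ZMod 2) V]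
  {ρ : Representation (ZMod 2) (G3 F) V}

/-- a simple trivial module has dimension 1 -/
theorem triv_dims {W : Submodule (ZMod 2) V} (hW : Simp ρ W) (h : ∀ v ∈ W, ∀ g, ρ g v = v) : Dims ρ W 1 1 1 1 := by
  obtain ⟨v, hv, hv0⟩ := (Submodule.ne_bot_iff _).1 hW.2.1
  have h1 : Submodule.span (ZMod 2) {v} = W := by
    have hle : Submodule.span (ZMod 2) {v} ≤ W := by rwa [Submodule.span_singleton_le_iff_mem]
    rcases hW.2.2 (Submodule.span (ZMod 2) {v}) (fun g w hw => by rw [h w (hle hw) g]; exact hw) hle with h2 | h2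
    · exact absurd (Submodule.span_singleton_eq_bot.1 h2) hv0
    · exact h2
  have h2 : Module.finrank (ZMod 2) W = 1 := by rw [← h1]; exact finrank_span_singleton hv0
  have h3 : ∀ g, fx ρ g W = W := by
    intro g
    ext x
    rw [mem_fx]
    exact ⟨fun h => h.1, fun hx => ⟨hx, h x hx g⟩⟩
  exact ⟨h2, fun g _ _ => by rw [h3, h2], fun g _ => by rw [h3, h2], fun g _ => by rw [h3, h2]⟩

theorem PL_of (hsc : SimpCases F) (hnd : NineDims F) (hc : CT ρ) {A B : Submodule (ZMod 2) V} (hA : Inv ρ A)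
    (hB : Inv ρ B) (h : A ≤ B) :
    ∃ a b c d : ℕ, Module.finrank (ZMod 2) B = Module.finrank (ZMod 2) A + (a + 16 * b + 9 * c + 64 * d) ∧
      (∀ g : G3 F, orderOf g = 3 → g ∉ Subgroup.center (G3 F) → Module.finrank (ZMod 2) (fx ρ g B) =
        Module.finrank (ZMod 2) (fx ρ g A) + (a + 4 * b + 3 * c + 22 * d)) ∧
      (∀ g : G3 F, orderOf g = 5 → Module.finrank (ZMod 2) (fx ρ g B) =
        Module.finrank (ZMod 2) (fx ρ g A) + (a + 4 * b + c + 12 * d)) ∧
      ∀ g : G3 F, orderOf g = 7 → Module.finrank (ZMod 2) (fx ρ g B) =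
        Module.finrank (ZMod 2) (fx ρ g A) + (a + 4 * b + 10 * d) := by
  obtain ⟨n, hn⟩ : ∃ n, n = Module.finrank (ZMod 2) B - Module.finrank (ZMod 2) A := ⟨_, rfl⟩
  induction n using Nat.strong_induction_on generalizing A B with
  | _ n ih =>
  by_cases hX : ∃ X, Inv ρ X ∧ A < X ∧ X < B
  · obtain ⟨X, hXi, hAX, hXB⟩ := hX
    have l1 := Submodule.finrank_lt_finrank_of_lt hAX
    have l2 := Submodule.finrank_lt_finrank_of_lt hXB
    obtain ⟨a, b, c, d, e1, e2, e3, e4⟩ := ih _ (by omega) hA hXi hAX.le rfl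
    obtain ⟨a', b', c', d', f1, f2, f3, f4⟩ := ih _ (by omega) hXi hB hXB.le rfl
    refine ⟨a + a', b + b', c + c', d + d', by omega, fun g hg hg' => ?_, fun g hg => ?_, fun g hg => ?_⟩
    · have := e2 g hg hg'
      have := f2 g hg hg'
      omega
    · have := e3 g hg
      have := f3 g hg
      omega
    · have := e4 g hg
      have := f4 g hg
      omega
  · by_cases hAB : A = B
    · subst hAB
      exact ⟨0, 0, 0, 0, by omega, fun g _ _ => by omega, fun g _ => by omega, fun g _ => by omega⟩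
    have hc' : CT (qrep ρ hA) := by
      intro c hc1 x
      obtain ⟨x, rfl⟩ := Submodule.Quotient.mk_surjective _ x
      rw [qrep_mk, hc c hc1]
    have hS : Simp (qrep ρ hA) (B.map A.mkQ) := by
      refine ⟨?_, ?_, ?_⟩
      · rintro g _ ⟨v, hv, rfl⟩
        exact ⟨ρ g v, hB g v hv, rfl⟩
      · intro h0
        rw [map_mkQ_bot] at h0
        exact hAB (le_antisymm h h0)
      · intro X hX' hXB
        have h1 : A ≤ X.comap A.mkQ := by
          intro v hv
          rw [Submodule.mem_comap, Submodule.mkQ_apply, (Submodule.Quotient.mk_eq_zero _).2 hv]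
          exact X.zero_mem
        have h2 : X.comap A.mkQ ≤ B := by
          intro v hv
          obtain ⟨b, hb, hbv⟩ := hXB (Submodule.mem_comap.1 hv)
          have h3 : b - v ∈ A := (Submodule.Quotient.eq _).1 hbv
          have h4 : v = b - (b - v) := by abel
          rw [h4]
          exact B.sub_mem hb (h h3)
        have h3 : Inv ρ (X.comap A.mkQ) := fun g v hv => hX' g _ hv
        have h5 : X = (X.comap A.mkQ).map A.mkQ := by
          rw [Submodule.map_comap_eq, Submodule.range_mkQ, top_inf_eq]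
        by_cases hXA : X.comap A.mkQ = A
        · left
          rw [h5, hXA, map_mkQ_bot]
        · right
          by_cases hXB' : X.comap A.mkQ = B
          · rw [h5, hXB']
          · exact absurd ⟨_, h3, lt_of_le_of_ne h1 (Ne.symm hXA), lt_of_le_of_ne h2 hXB'⟩ hX
    have o3 : ∀ g : G3 F, orderOf g = 3 → Odd (orderOf g) := fun g hg => by rw [hg]; decide
    have o5 : ∀ g : G3 F, orderOf g = 5 → Odd (orderOf g) := fun g hg => by rw [hg]; decide
    have o7 : ∀ g : G3 F, orderOf g = 7 → Odd (orderOf g) := fun g hg => by rw [hg]; decide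
    have r1 := rank_quot h
    have key : ∀ {n n3 n5 n7 : ℕ}, Dims (qrep ρ hA) (B.map A.mkQ) n n3 n5 n7 →
        Module.finrank (ZMod 2) B = Module.finrank (ZMod 2) A + n ∧
        (∀ g : G3 F, orderOf g = 3 → g ∉ Subgroup.center (G3 F) → Module.finrank (ZMod 2) (fx ρ g B) =
          Module.finrank (ZMod 2) (fx ρ g A) + n3) ∧
        (∀ g : G3 F, orderOf g = 5 → Module.finrank (ZMod 2) (fx ρ g B) = Module.finrank (ZMod 2) (fx ρ g A) + n5) ∧
        ∀ g : G3 F, orderOf g = 7 → Module.finrank (ZMod 2) (fx ρ g B) = Module.finrank (ZMod 2) (fx ρ g A) + n7 := by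
      intro n n3 n5 n7 hD
      refine ⟨by rw [r1, hD.1], fun g hg hg' => ?_, fun g hg => ?_, fun g hg => ?_⟩
      · rw [fx_quot hA hB h (o3 g hg), hD.2.1 g hg hg']
      · rw [fx_quot hA hB h (o5 g hg), hD.2.2.1 g hg]
      · rw [fx_quot hA hB h (o7 g hg), hD.2.2.2 g hg]
    rcases hsc hc' hS with h1 | h1 | h1 | h1 | h1
    · exact ⟨1, 0, 0, 0, key (triv_dims hS h1)⟩
    · exact ⟨0, 0, 1, 0, key (hnd h1)⟩
    · exact ⟨0, 0, 1, 0, key (hnd h1)⟩
    · exact ⟨0, 1, 0, 0, key h1⟩
    · exact ⟨0, 0, 0, 1, key h1.1⟩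

end Cfsg.Agent.H100.EL
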