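import Cfsg.Agent.ClassicalGeometry.AutPSL.Main
import Cfsg.Agent.LThreeFour.Exists

/-!
# S5917, part I, `E`-level: `E = 3^2` in `PSL₃(4)` and its centralizer in the automorphism group (helper100)

* `da`, `pb` : the elements `diag(1, w, w²)` and the cyclic permutation matrix of `SL₃(F)`;
* `card_fix_le` : at most 18 automorphisms of `PSL₃(4)` fix both;
* `cent_le` : `|C_H(E)| ≤ 18`.
-/

set_option autoImplicit false

namespace Cfsg.Agent.H100.EL

open Matrix
open Cfsg.Agent.ClassicalGeometry.AutPSL.Root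
open Cfsg.Agent.ClassicalGeometry.AutPSL.Auto
open Cfsg.Agent.ClassicalGeometry.AutPSL.Main

universe u

section

variable {F : Type u} [Field F] {w : F}

/-- `diag(1, w, w²)` -/
def da (hw : w ^ 2 + w + 1 = 0) : SpecialLinearGroup (Fin 3) F :=
  ⟨!![1, 0, 0; 0, w, 0; 0, 0, w ^ 2], by
    rw [Matrix.det_fin_three]
    simp
    linear_combination (w - 1) * hw⟩

/-- the cyclic permutation -/
def pb (F : Type u) [Field F] : SpecialLinearGroup (Fin 3) F :=
  ⟨!![0, 1, 0; 0, 0, 1; 1, 0, 0], by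
    rw [Matrix.det_fin_three]
    simp⟩

theorem w3 (hw : w ^ 2 + w + 1 = 0) : w ^ 3 = 1 := by linear_combination (w - 1) * hw

/-- `b a = w a b` -/
theorem pb_da (hw : w ^ 2 + w + 1 = 0) :
    ((pb F : SpecialLinearGroup (Fin 3) F) : Matrix (Fin 3) (Fin 3) F) * da hw = w • ((da hw : Matrix (Fin 3) (Fin 3) F) * pb F) := by
  have h3 := w3 hw
  ext i j
  fin_cases i <;> fin_cases j <;> simp [da, pb, Matrix.mul_apply, Fin.sum_univ_three, pow_succ] <;> linear_combination -h3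

/-- matrices commuting with `diag(1, c, c²)` and the cyclic permutation are scalar -/
theorem scalar_of_comm {c : F} (hc : c ^ 2 + c + 1 = 0) (hc1 : c ≠ 1) {D : Matrix (Fin 3) (Fin 3) F}
    (h1 : D * !![1, 0, 0; 0, c, 0; 0, 0, c ^ 2] = !![1, 0, 0; 0, c, 0; 0, 0, c ^ 2] * D)
    (h2 : D * !![0, 1, 0; 0, 0, 1; 1, 0, 0] = !![0, 1, 0; 0, 0, 1; 1, 0, 0] * D) : D = D 0 0 • (1 : Matrix (Fin 3) (Fin 3) F) := by
  have hc0 : c ≠ 0 := by
    rintro rfl
    simp at hc
  have hc2 : c ^ 2 ≠ 1 := by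
    intro h
    have h3 := w3 hc
    apply hc1
    calc c = c ^ 3 := by rw [pow_succ, h, one_mul]
      _ = 1 := h3
  have e01 := congrFun (congrFun h1 0) 1
  have e02 := congrFun (congrFun h1 0) 2
  have e10 := congrFun (congrFun h1 1) 0
  have e12 := congrFun (congrFun h1 1) 2
  have e20 := congrFun (congrFun h1 2) 0
  have e21 := congrFun (congrFun h1 2) 1
  have g01 := congrFun (congrFun h2 0) 1
  have g12 := congrFun (congrFun h2 1) 2
  simp only [Matrix.mul_apply, Fin.sum_univ_three, Matrix.of_apply, Matrix.cons_val', Matrix.cons_val_zero,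
    Matrix.cons_val_one, Matrix.cons_val, mul_zero, zero_mul, mul_one, one_mul, add_zero, zero_add] at e01 e02 e10 e12 e20 e21 g01 g12
  have n1 : c - 1 ≠ 0 := sub_ne_zero.2 hc1
  have n2 : c ^ 2 - 1 ≠ 0 := sub_ne_zero.2 hc2
  have n3 : c ^ 2 - c ≠ 0 := by
    intro h
    have h3 : c * (c - 1) = 0 := by linear_combination h
    rcases mul_eq_zero.1 h3 with h4 | h4
    · exact hc0 h4
    · exact n1 h4
  have d01 : D 0 1 = 0 := (mul_eq_zero.1 (show D 0 1 * (c - 1) = 0 by linear_combination e01)).resolve_right n1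
  have d02 : D 0 2 = 0 := (mul_eq_zero.1 (show D 0 2 * (c ^ 2 - 1) = 0 by linear_combination e02)).resolve_right n2
  have d10 : D 1 0 = 0 := (mul_eq_zero.1 (show D 1 0 * (c - 1) = 0 by linear_combination -e10)).resolve_right n1
  have d12 : D 1 2 = 0 := (mul_eq_zero.1 (show D 1 2 * (c ^ 2 - c) = 0 by linear_combination e12)).resolve_right n3
  have d20 : D 2 0 = 0 := (mul_eq_zero.1 (show D 2 0 * (c ^ 2 - 1) = 0 by linear_combination -e20)).resolve_right n2
  have d21 : D 2 1 = 0 := (mul_eq_zero.1 (show D 2 1 * (c ^ 2 - c) = 0 by linear_combination -e21)).resolve_right n3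
  ext i j
  fin_cases i <;> fin_cases j <;> simp [d01, d02, d10, d12, d20, d21, g01, ← g12]

/-- the field with four elements -/
theorem exists_w [Fintype F] (hF : Fintype.card F = 4) : ∃ w : F, w ^ 2 + w + 1 = 0 ∧ w ≠ 1 := by
  have hz : ∃ w : F, w ≠ 0 ∧ w ≠ 1 := by
    classical
    by_contra hc
    push Not at hc
    have h1 : (Finset.univ : Finset F) ⊆ {0, 1} := by
      intro x _
      by_cases h0 : x = 0
      · simp [h0]
      · simp [hc x h0]
    have h2 := Finset.card_le_card h1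
    rw [Finset.card_univ, hF] at h2
    have h3 : ({0, 1} : Finset F).card ≤ 2 := Finset.card_le_two
    omega
  obtain ⟨w, h0, h1⟩ := hz
  refine ⟨w, ?_, h1⟩
  have h3 : w ^ 3 = 1 := by
    have := FiniteField.pow_card_sub_one_eq_one w h0
    rwa [hF] at this
  have h4 : (w - 1) * (w ^ 2 + w + 1) = 0 := by linear_combination h3
  exact (mul_eq_zero.1 h4).resolve_left (sub_ne_zero.2 h1)

/-- `F₄ = {0, 1, w, w²}` -/
theorem mem_four [Fintype F] (hF : Fintype.card F = 4) (hw : w ^ 2 + w + 1 = 0) (hw1 : w ≠ 1) (x : F) :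
    x = 0 ∨ x = 1 ∨ x = w ∨ x = w ^ 2 := by
  by_cases h0 : x = 0
  · exact Or.inl h0
  right
  have h3 : x ^ 3 = 1 := by
    have := FiniteField.pow_card_sub_one_eq_one x h0
    rwa [hF] at this
  have h4 : (x - 1) * ((x - w) * (x - w ^ 2)) = 0 := by
    linear_combination h3 + (-(x ^ 2) + x * w - w + 1) * hw
  rcases mul_eq_zero.1 h4 with h5 | h5
  · exact Or.inl (sub_eq_zero.1 h5)
  · rcases mul_eq_zero.1 h5 with h6 | h6
    · exact Or.inr (Or.inl (sub_eq_zero.1 h6))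
    · exact Or.inr (Or.inr (sub_eq_zero.1 h6))

/-- field automorphisms are determined by the image of `w` -/
theorem ringEquiv_ext [Fintype F] (hF : Fintype.card F = 4) (hw : w ^ 2 + w + 1 = 0) (hw1 : w ≠ 1) {σ τ : F ≃+* F}
    (h : σ w = τ w) : σ = τ := by
  apply RingEquiv.ext
  intro x
  rcases mem_four hF hw hw1 x with rfl | rfl | rfl | rfl
  · rw [map_zero, map_zero]
  · rw [map_one, map_one]
  · exact h
  · rw [map_pow, map_pow, h]

/-- the graph automorphism or the identity -/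
def it (F : Type u) [Field F] (ε : Bool) : MulAut (SpecialLinearGroup (Fin 3) F) := if ε then itr else 1

/-- the normal form of an automorphism fixing `E` -/
structure Nf (w : F) (hw : w ^ 2 + w + 1 = 0) (α : MulAut (ProjectiveSpecialLinearGroup (Fin 3) F)) (x : Bool × Fˣ × Fˣ)
    (C : GL (Fin 3) F) (σ : F ≃+* F) : Prop where
  eq : α = lift (cj C * fld σ * it F x.1)
  sw : σ w = if x.1 then w ^ 2 else w
  ca : (C : Matrix (Fin 3) (Fin 3) F) * da hw = (x.2.1 : F) • ((da hw : Matrix (Fin 3) (Fin 3) F) * C)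
  cb : (C : Matrix (Fin 3) (Fin 3) F) * pb F = (x.2.2 : F) • ((pb F : Matrix (Fin 3) (Fin 3) F) * C)

theorem Nf.unique [Fintype F] (hF : Fintype.card F = 4) (hw : w ^ 2 + w + 1 = 0) (hw1 : w ≠ 1)
    {α α' : MulAut (ProjectiveSpecialLinearGroup (Fin 3) F)} {x : Bool × Fˣ × Fˣ} {C C' : GL (Fin 3) F} {σ σ' : F ≃+* F}
    (h : Nf w hw α x C σ) (h' : Nf w hw α' x C' σ') : α = α' := by
  have hs : σ = σ' := ringEquiv_ext hF hw hw1 (by rw [h.sw, h'.sw])
  subst hs
  rw [h.eq, h'.eq]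
  -- `C'⁻¹ C` is scalar
  obtain ⟨D, hD⟩ : ∃ D : GL (Fin 3) F, D = C'⁻¹ * C := ⟨_, rfl⟩
  have hC : C = C' * D := by rw [hD, mul_inv_cancel_left]
  have key : ∀ (M : Matrix (Fin 3) (Fin 3) F) (l : Fˣ), (C : Matrix (Fin 3) (Fin 3) F) * M = (l : F) • (M * C) →
      (C' : Matrix (Fin 3) (Fin 3) F) * M = (l : F) • (M * C') → (D : Matrix (Fin 3) (Fin 3) F) * M = M * D := by
    intro M l h1 h2
    have h3 : (C' : Matrix (Fin 3) (Fin 3) F) * ((D : Matrix (Fin 3) (Fin 3) F) * M) =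
        (C' : Matrix (Fin 3) (Fin 3) F) * (M * D) := by
      rw [← mul_assoc, ← mul_assoc, h2, ← Units.val_mul, ← hC, h1, Matrix.smul_mul, mul_assoc, ← Units.val_mul, ← hC]
    have h4 := congrArg (fun N => ((C'⁻¹ : GL (Fin 3) F) : Matrix (Fin 3) (Fin 3) F) * N) h3
    simp only [← mul_assoc, ← Units.val_mul, inv_mul_cancel, Units.val_one, one_mul] at h4
    exact h4
  have hsc := scalar_of_comm hw hw1 (key _ _ h.ca h'.ca) (key _ _ h.cb h'.cb)
  have h1 : cj C = cj C' := by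
    have h2 : cj D = 1 := by
      apply MulEquiv.ext
      intro g
      apply Subtype.ext
      rw [coe_cj]
      have h3 : (D : Matrix (Fin 3) (Fin 3) F) * g = (g : Matrix (Fin 3) (Fin 3) F) * D := by
        rw [hsc, Matrix.smul_mul, Matrix.mul_smul, one_mul, mul_one]
      rw [h3, mul_assoc, ← Units.val_mul, mul_inv_cancel, Units.val_one, mul_one]
      rfl
    rw [hC, map_mul, h2, mul_one]
  rw [h1]

/-- the image of `da`, `pb` under field and graph automorphisms -/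
theorem fld_da (hw : w ^ 2 + w + 1 = 0) (σ : F ≃+* F) :
    ((fld σ (da hw) : SpecialLinearGroup (Fin 3) F) : Matrix (Fin 3) (Fin 3) F) =
      !![1, 0, 0; 0, σ w, 0; 0, 0, (σ w) ^ 2] := by
  ext i j
  rw [coe_fld_apply]
  fin_cases i <;> fin_cases j <;> simp [da]

theorem fld_pb (σ : F ≃+* F) : (fld σ (pb F) : SpecialLinearGroup (Fin 3) F) = pb F := by
  apply Subtype.ext
  ext i j
  rw [coe_fld_apply]
  fin_cases i <;> fin_cases j <;> simp [pb]

theorem w2 (hw : w ^ 2 + w + 1 = 0) : (w ^ 2) ^ 2 + w ^ 2 + 1 = 0 := by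
  linear_combination (w ^ 2 - w + 1) * hw

theorem itr_da (hw : w ^ 2 + w + 1 = 0) : (itr (da hw) : SpecialLinearGroup (Fin 3) F) = da (w2 hw) := by
  have h1 : (da hw)⁻¹ = da (w2 hw) := by
    rw [inv_eq_iff_mul_eq_one]
    apply Subtype.ext
    have h3 := w3 hw
    have h4 : w * w ^ 2 = 1 := by rw [← h3]; ring
    have h5 : w ^ 2 * (w ^ 2) ^ 2 = 1 := by linear_combination (w ^ 3 + 1) * h3
    change !![1, 0, 0; 0, w, 0; 0, 0, w ^ 2] * !![1, 0, 0; 0, w ^ 2, 0; 0, 0, (w ^ 2) ^ 2] = (1 : Matrix (Fin 3) (Fin 3) F)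
    ext i j
    fin_cases i <;> fin_cases j <;> simp [Matrix.mul_apply, Fin.sum_univ_three, h4, h5]
  apply Subtype.ext
  rw [coe_itr, h1]
  ext i j
  fin_cases i <;> fin_cases j <;> simp [da]

theorem itr_pb : (itr (pb F) : SpecialLinearGroup (Fin 3) F) = pb F := by
  apply Subtype.ext
  rw [coe_itr]
  have hd : (!![0, 0, 1; 1, 0, 0; 0, 1, 0] : Matrix (Fin 3) (Fin 3) F).det = 1 := by
    rw [Matrix.det_fin_three]
    simp
  obtain ⟨B', hB'⟩ : ∃ B' : SpecialLinearGroup (Fin 3) F, (B' : Matrix (Fin 3) (Fin 3) F) = !![0, 0, 1; 1, 0, 0; 0, 1, 0] :=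
    ⟨⟨_, hd⟩, rfl⟩
  have h1 : (pb F)⁻¹ = B' := by
    rw [inv_eq_iff_mul_eq_one]
    apply Subtype.ext
    change !![0, 1, 0; 0, 0, 1; 1, 0, 0] * (B' : Matrix (Fin 3) (Fin 3) F) = (1 : Matrix (Fin 3) (Fin 3) F)
    rw [hB']
    ext i j
    fin_cases i <;> fin_cases j <;> simp [Matrix.mul_apply, Fin.sum_univ_three]
  rw [h1, hB']
  ext i j
  fin_cases i <;> fin_cases j <;> simp [pb]

/-- `C φ(A) = λ A C`, `φ(A) = diag(1, c, c²)`, `φ(B) = B` force `c = w` -/
theorem c_eq (hw : w ^ 2 + w + 1 = 0) {c : F} (hc : c ^ 2 + c + 1 = 0) {C : GL (Fin 3) F} {l m : F} (hl : l ≠ 0) (hm : m ≠ 0)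
    (h1 : (C : Matrix (Fin 3) (Fin 3) F) * da hc = l • ((da hw : Matrix (Fin 3) (Fin 3) F) * C))
    (h2 : (C : Matrix (Fin 3) (Fin 3) F) * pb F = m • ((pb F : Matrix (Fin 3) (Fin 3) F) * C)) : c = w := by
  have e1 : (C : Matrix (Fin 3) (Fin 3) F) * (pb F * da hc) = (m * l) • ((pb F : Matrix (Fin 3) (Fin 3) F) * da hw * C) := by
    rw [← mul_assoc, h2, Matrix.smul_mul, mul_assoc, h1, Matrix.mul_smul, smul_smul, mul_assoc]
  have e2 : (C : Matrix (Fin 3) (Fin 3) F) * (da hc * pb F) = (m * l) • ((da hw : Matrix (Fin 3) (Fin 3) F) * pb F * C) := by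
    rw [← mul_assoc, h1, Matrix.smul_mul, mul_assoc, h2, Matrix.mul_smul, smul_smul, mul_assoc, mul_comm l m]
  rw [pb_da hc, Matrix.mul_smul, e2, pb_da hw, smul_smul, Matrix.smul_mul, smul_smul] at e1
  have e3 : c • ((da hw : Matrix (Fin 3) (Fin 3) F) * pb F) = w • ((da hw : Matrix (Fin 3) (Fin 3) F) * pb F) := by
    have e4 := congrArg (fun N => (m * l)⁻¹ • (N * ((C⁻¹ : GL (Fin 3) F) : Matrix (Fin 3) (Fin 3) F))) e1
    simp only [Matrix.smul_mul, mul_assoc, ← Units.val_mul, mul_inv_cancel, Units.val_one, mul_one, smul_smul] at e4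
    have hml : l⁻¹ * m⁻¹ * (c * (m * l)) = c := by field_simp
    have hml' : l⁻¹ * m⁻¹ * (m * (l * w)) = w := by field_simp
    simpa [hml, hml'] using e4
  have e5 := congrFun (congrFun e3 0) 1
  simpa [da, pb, Matrix.mul_apply, Fin.sum_univ_three] using e5

theorem card_units [Fintype F] (hF : Fintype.card F = 4) : Nat.card (Bool × Fˣ × Fˣ) = 18 := by
  classical
  have h1 : Nat.card Fˣ = 3 := by rw [Nat.card_eq_fintype_card, Fintype.card_units, hF]
  rw [Nat.card_prod, Nat.card_prod, h1]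
  simp

/-- every automorphism fixing `E` has a normal form -/
theorem exists_nf [Fintype F] (hF : Fintype.card F = 4) [CharP F 2] (hw : w ^ 2 + w + 1 = 0) (hw1 : w ≠ 1)
    {α : MulAut (ProjectiveSpecialLinearGroup (Fin 3) F)} (ha : α (pr (da hw)) = pr (da hw)) (hb : α (pr (pb F)) = pr (pb F)) :
    ∃ x C σ, Nf w hw α x C σ := by
  have hF2 : Fact (Nat.Prime 2) := ⟨Nat.prime_two⟩
  have hrt : ∀ {c : F}, c ^ 2 + c + 1 = 0 → ∀ σ : F ≃+* F, (σ c) ^ 2 + σ c + 1 = 0 := by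
    intro c hc σ
    have := congrArg σ hc
    simpa using this
  have key : ∀ (C : GL (Fin 3) F) (φ : MulAut (SpecialLinearGroup (Fin 3) F)) (c : F) (hc : c ^ 2 + c + 1 = 0),
      α = lift (cj C * φ) → φ (da hw) = da hc → φ (pb F) = pb F →
      ∃ l m : Fˣ, c = w ∧ (C : Matrix (Fin 3) (Fin 3) F) * da hw = (l : F) • ((da hw : Matrix (Fin 3) (Fin 3) F) * C) ∧
        (C : Matrix (Fin 3) (Fin 3) F) * pb F = (m : F) • ((pb F : Matrix (Fin 3) (Fin 3) F) * C) := by
    intro C φ c hc hα h1 h2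
    rw [hα, lift_pr, MulAut.mul_apply, h1] at ha
    rw [hα, lift_pr, MulAut.mul_apply, h2] at hb
    obtain ⟨l, hl⟩ := exists_smul_of_pr_eq ha.symm
    obtain ⟨m, hm⟩ := exists_smul_of_pr_eq hb.symm
    rw [coe_cj] at hl hm
    have mv : ∀ (X Y : Matrix (Fin 3) (Fin 3) F) (t : F), (C : Matrix (Fin 3) (Fin 3) F) * X *
        ((C⁻¹ : GL (Fin 3) F) : Matrix (Fin 3) (Fin 3) F) = t • Y → (C : Matrix (Fin 3) (Fin 3) F) * X = t • (Y * C) := by
      intro X Y t h
      rw [← Matrix.smul_mul, ← h, mul_assoc, ← Units.val_mul, inv_mul_cancel, Units.val_one, mul_one]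
    have hl' := mv _ _ _ hl
    have hm' := mv _ _ _ hm
    have nz : ∀ (x y : SpecialLinearGroup (Fin 3) F) (t : F), (C : Matrix (Fin 3) (Fin 3) F) * (x : Matrix (Fin 3) (Fin 3) F) =
        t • ((y : Matrix (Fin 3) (Fin 3) F) * C) → t ≠ 0 := by
      intro x y t h h0
      rw [h0, zero_smul] at h
      have h3 := congrArg (fun N => ((C⁻¹ : GL (Fin 3) F) : Matrix (Fin 3) (Fin 3) F) * N) h
      simp only [← mul_assoc, ← Units.val_mul, inv_mul_cancel, Units.val_one, one_mul, mul_zero] at h3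
      have h4 := x.2
      rw [h3, Matrix.det_zero] at h4
      exact zero_ne_one h4
    have hl0 := nz _ _ _ hl'
    have hm0 := nz _ _ _ hm'
    have hcw := c_eq hw hc hl0 hm0 hl' hm'
    subst hcw
    exact ⟨Units.mk0 l hl0, Units.mk0 m hm0, rfl, hl', hm'⟩
  rcases surj_three 2 le_rfl α with ⟨C, σ, hC⟩ | ⟨C, σ, hC⟩
  · obtain ⟨l, m, h1, h2, h3⟩ := key C (fld σ) (σ w) (hrt hw σ) hC (Subtype.ext (fld_da hw σ)) (fld_pb σ)
    refine ⟨(false, l, m), C, σ, ?_, ?_, h2, h3⟩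
    · rw [hC, it, if_neg (by simp), mul_one]
    · rw [h1]; simp
  · obtain ⟨l, m, h1, h2, h3⟩ := key C (fld σ * itr) (σ (w ^ 2)) (hrt (w2 hw) σ) (by rw [hC, mul_assoc])
      (by
        rw [MulAut.mul_apply, itr_da]
        exact Subtype.ext (fld_da (w2 hw) σ)) (by rw [MulAut.mul_apply, itr_pb, fld_pb])
    refine ⟨(true, l, m), C, σ, ?_, ?_, h2, h3⟩
    · rw [hC, it, if_pos rfl]
    · simp only [if_true]
      rw [map_pow] at h1
      have h4 : σ w = (σ w ^ 2) ^ 2 := by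
        have h5 : σ w ^ 3 = 1 := w3 (hrt hw σ)
        calc σ w = σ w * σ w ^ 3 := by rw [h5, mul_one]
          _ = _ := by ring
      rw [h4, h1]

/-- **at most 18 automorphisms of `PSL₃(4)` fix `da` and `pb`** -/
theorem card_fix_le [Fintype F] (hF : Fintype.card F = 4) (hw : w ^ 2 + w + 1 = 0) (hw1 : w ≠ 1) :
    Nat.card {α : MulAut (ProjectiveSpecialLinearGroup (Fin 3) F) // α (pr (da hw)) = pr (da hw) ∧ α (pr (pb F)) = pr (pb F)}
      ≤ 18 := by
  classical
  have : Fact (Nat.Prime 2) := ⟨Nat.prime_two⟩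
  have hch : CharP F 2 := charP_of_card_eq_prime_pow (f := 2) (by rw [hF]; norm_num)
  rw [← card_units hF]
  choose x C σ h using fun α : {α : MulAut (ProjectiveSpecialLinearGroup (Fin 3) F) // α (pr (da hw)) = pr (da hw) ∧
    α (pr (pb F)) = pr (pb F)} => exists_nf hF hw hw1 α.2.1 α.2.2
  refine Nat.card_le_card_of_injective x fun α β hαβ => Subtype.ext ?_
  have h1 := h α
  rw [hαβ] at h1
  exact h1.unique hF hw hw1 (h β)

/-! ### the elements of `PSL₃(4)` -/

theorem da_pow (hw : w ^ 2 + w + 1 = 0) : (da hw) ^ 3 = 1 := by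
  have h3 := w3 hw
  have h4 : w * w * w = 1 := by rw [← h3]; ring
  have h5 : w ^ 2 * w ^ 2 * w ^ 2 = 1 := by linear_combination (w ^ 3 + 1) * h3
  apply Subtype.ext
  rw [pow_succ, pow_succ, pow_one]
  change !![1, 0, 0; 0, w, 0; 0, 0, w ^ 2] * !![1, 0, 0; 0, w, 0; 0, 0, w ^ 2] * !![1, 0, 0; 0, w, 0; 0, 0, w ^ 2] =
    (1 : Matrix (Fin 3) (Fin 3) F)
  ext i j
  fin_cases i <;> fin_cases j <;> simp [Matrix.mul_apply, Fin.sum_univ_three, h4, h5]

theorem pb_pow : (pb F) ^ 3 = 1 := by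
  apply Subtype.ext
  rw [pow_succ, pow_succ, pow_one]
  change !![0, 1, 0; 0, 0, 1; 1, 0, 0] * !![0, 1, 0; 0, 0, 1; 1, 0, 0] * !![0, 1, 0; 0, 0, 1; 1, 0, 0] =
    (1 : Matrix (Fin 3) (Fin 3) F)
  ext i j
  fin_cases i <;> fin_cases j <;> simp [Matrix.mul_apply, Fin.sum_univ_three]

theorem pr_comm (hw : w ^ 2 + w + 1 = 0) :
    (pr (da hw) * pr (pb F) : ProjectiveSpecialLinearGroup (Fin 3) F) = pr (pb F) * pr (da hw) := by
  rw [← map_mul, ← map_mul]
  exact pr_eq_of_smul (pb_da hw)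

/-- `E` is a 3-group -/
theorem isPGroup_E (hw : w ^ 2 + w + 1 = 0) :
    IsPGroup 3 (Subgroup.zpowers (pr (da hw)) ⊔ Subgroup.zpowers (pr (pb F)) :
      Subgroup (ProjectiveSpecialLinearGroup (Fin 3) F)) := by
  have hz : ∀ x : ProjectiveSpecialLinearGroup (Fin 3) F, x ^ 3 = 1 → IsPGroup 3 (Subgroup.zpowers x) := by
    rintro x hx ⟨_, k, rfl⟩
    refine ⟨1, Subtype.ext ?_⟩
    change (x ^ k) ^ (3 ^ 1) = 1
    rw [pow_one, ← zpow_natCast, ← _root_.zpow_mul, mul_comm, _root_.zpow_mul, zpow_natCast, hx, _root_.one_zpow]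
  refine IsPGroup.to_sup_of_normal_right' (hz _ (by rw [← map_pow, da_pow, map_one])) (hz _ (by rw [← map_pow, pb_pow, map_one])) ?_
  rw [Subgroup.zpowers_le, Subgroup.mem_normalizer_iff]
  have hc : ∀ k : ℤ, pr (da hw) * pr (pb F) ^ k * (pr (da hw))⁻¹ = pr (pb F) ^ k := by
    intro k
    have h1 : Commute (pr (da hw)) (pr (pb F) ^ k) := Commute.zpow_right (pr_comm hw) k
    rw [h1.eq, mul_inv_cancel_right]
  intro h
  constructor
  · rintro ⟨k, rfl⟩
    exact ⟨k, (hc k).symm⟩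
  · rintro ⟨k, hk⟩
    refine ⟨k, ?_⟩
    change pr (pb F) ^ k = _ at hk
    change pr (pb F) ^ k = h
    rw [← hc k] at hk
    exact mul_left_cancel (mul_right_cancel hk)

/-! ### `|C_H(E)| ≤ 18` -/

/-- for the explicit generators -/
theorem cent_le_aux {H : Type*} [Group H] [Finite H] (S : Subgroup H) [S.Normal]
    (hc : Subgroup.centralizer (S : Set H) = ⊥) [Fintype F] (hF : Fintype.card F = 4) (hw : w ^ 2 + w + 1 = 0) (hw1 : w ≠ 1)
    (e : ↥S ≃* ProjectiveSpecialLinearGroup (Fin 3) F) (C : Subgroup H)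
    (hCa : ∀ c ∈ C, c * (e.symm (pr (da hw)) : H) = e.symm (pr (da hw)) * c)
    (hCb : ∀ c ∈ C, c * (e.symm (pr (pb F)) : H) = e.symm (pr (pb F)) * c) : Nat.card C ≤ 18 := by
  have hfix : ∀ (c : H) (x : ProjectiveSpecialLinearGroup (Fin 3) F), c * (e.symm x : H) = e.symm x * c →
      (MulAut.congr e (MulAut.conjNormal c)) x = x := by
    intro c x h
    change e (MulAut.conjNormal c (e.symm x)) = x
    have h1 : MulAut.conjNormal c (e.symm x) = e.symm x := by
      apply Subtype.ext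
      rw [MulAut.conjNormal_apply, h, mul_inv_cancel_right]
    rw [h1, MulEquiv.apply_symm_apply]
  have : Finite (MulAut (ProjectiveSpecialLinearGroup (Fin 3) F)) :=
    Finite.of_injective (fun α : MulAut (ProjectiveSpecialLinearGroup (Fin 3) F) => (α : ProjectiveSpecialLinearGroup (Fin 3) F → _))
      DFunLike.coe_injective
  refine le_trans (Nat.card_le_card_of_injective (fun c : C =>
    (⟨MulAut.congr e (MulAut.conjNormal (c : H)), hfix _ _ (hCa c c.2), hfix _ _ (hCb c c.2)⟩ :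
      {α : MulAut (ProjectiveSpecialLinearGroup (Fin 3) F) // α (pr (da hw)) = pr (da hw) ∧ α (pr (pb F)) = pr (pb F)})) ?_)
    (card_fix_le hF hw hw1)
  intro c d hcd
  have h1 : MulAut.congr e (MulAut.conjNormal (c : H)) = MulAut.congr e (MulAut.conjNormal (d : H)) := congrArg Subtype.val hcd
  have h2 : (MulAut.conjNormal (c : H) : MulAut S) = MulAut.conjNormal (d : H) := (MulAut.congr e).injective h1
  have h3 : (d : H)⁻¹ * c ∈ Subgroup.centralizer (S : Set H) := by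
    rw [Subgroup.mem_centralizer_iff]
    intro s hs
    have h4 := congrArg Subtype.val (DFunLike.congr_fun h2 ⟨s, hs⟩)
    rw [MulAut.conjNormal_apply, MulAut.conjNormal_apply] at h4
    change (c : H) * s * (c : H)⁻¹ = (d : H) * s * (d : H)⁻¹ at h4
    have h5 : (c : H) * s = (d : H) * s * (d : H)⁻¹ * c := by rw [← h4, inv_mul_cancel_right]
    rw [mul_assoc (d : H)⁻¹, h5]
    group
  rw [hc, Subgroup.mem_bot, inv_mul_eq_one] at h3
  exact Subtype.ext h3.symm

/-- **`|C_H(E)| ≤ 18`** for every subgroup `E` of order 9 of the normal subgroup `S ≅ L₃(4)`, `C_H(S) = 1` -/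
theorem cent_le {H : Type*} [Group H] [Finite H] (S : Subgroup H) [S.Normal]
    (hc : Subgroup.centralizer (S : Set H) = ⊥) [Fintype F] (hF : Fintype.card F = 4)
    (e : ↥S ≃* ProjectiveSpecialLinearGroup (Fin 3) F) {E : Subgroup H} (hE : E ≤ S) (h9 : Nat.card E = 9) :
    Nat.card (Subgroup.centralizer (E : Set H)) ≤ 18 := by
  have hp3 : Fact (Nat.Prime 3) := ⟨Nat.prime_three⟩
  obtain ⟨w, hw, hw1⟩ := exists_w hF
  obtain ⟨A⟩ := Cfsg.Agent.LThreeFour.exists_dat hF e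
  -- `E` as a Sylow subgroup of `S`
  have h9' : Nat.card (E.subgroupOf S) = 9 := by
    rw [← h9]
    exact Nat.card_congr (Subgroup.subgroupOfEquivOfLe hE).toEquiv
  have hP : IsPGroup 3 (E.subgroupOf S) := IsPGroup.of_card (n := 2) (by rw [h9']; norm_num)
  obtain ⟨P, hEP⟩ := hP.exists_le_sylow
  have hPc : Nat.card P = 9 := by
    have h1 := P.card_eq_multiplicity
    have h2 : (20160 : ℕ).factorization 3 = 2 := by
      rw [show (20160 : ℕ) = 3 ^ 2 * 2240 by norm_num, Nat.factorization_mul (by norm_num) (by norm_num),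
        Finsupp.add_apply, Nat.Prime.factorization_pow Nat.prime_three, Finsupp.single_eq_same,
        Nat.factorization_eq_zero_of_not_dvd (by norm_num)]
    rw [A.card, h2] at h1
    rw [h1]; norm_num
  have hPE : (P : Subgroup S) = E.subgroupOf S := (Subgroup.eq_of_le_of_card_ge hEP (by rw [h9']; exact hPc.le)).symm
  -- the explicit subgroup
  obtain ⟨E₀, hE₀⟩ : ∃ E₀ : Subgroup S, E₀ = (Subgroup.zpowers (pr (da hw)) ⊔ Subgroup.zpowers (pr (pb F)) :
      Subgroup (ProjectiveSpecialLinearGroup (Fin 3) F)).map e.symm.toMonoidHom := ⟨_, rfl⟩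
  have hE₀p : IsPGroup 3 E₀ := by rw [hE₀]; exact (isPGroup_E hw).map _
  obtain ⟨R, hR⟩ := hE₀p.exists_le_sylow
  obtain ⟨g, hg⟩ := MulAction.exists_smul_eq S P R
  have hmem : ∀ x ∈ E₀, (g : H)⁻¹ * (x : H) * g ∈ E := by
    intro x hx
    have h1 : x ∈ ((g • P : Sylow 3 S) : Subgroup S) := by rw [hg]; exact hR hx
    rw [Sylow.smul_def, Sylow.pointwise_smul_def, Subgroup.mem_pointwise_smul_iff_inv_smul_mem, ← map_inv, MulAut.smul_def,
      MulAut.conj_apply, inv_inv] at h1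
    have h2 : g⁻¹ * x * g ∈ (P : Subgroup S) := h1
    rw [hPE, Subgroup.mem_subgroupOf] at h2
    exact h2
  -- conjugation by `g` maps `C(E)` into `C(E₀)`
  have hcom : ∀ x : ProjectiveSpecialLinearGroup (Fin 3) F, e.symm x ∈ E₀ →
      ∀ c ∈ (Subgroup.centralizer (E : Set H)).map (MulAut.conj (g : H)).toMonoidHom,
        c * (e.symm x : H) = e.symm x * c := by
    rintro x hx _ ⟨c, hc', rfl⟩
    have h1 := (Subgroup.mem_centralizer_iff.1 hc') _ (hmem _ hx)
    change (g : H) * c * (g : H)⁻¹ * (e.symm x : H) = (e.symm x : H) * ((g : H) * c * (g : H)⁻¹)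
    calc (g : H) * c * (g : H)⁻¹ * (e.symm x : H) = (g : H) * (c * ((g : H)⁻¹ * (e.symm x : H) * g)) * (g : H)⁻¹ := by group
      _ = (g : H) * ((g : H)⁻¹ * (e.symm x : H) * g * c) * (g : H)⁻¹ := by rw [h1]
      _ = _ := by group
  have hin : ∀ x ∈ (Subgroup.zpowers (pr (da hw)) ⊔ Subgroup.zpowers (pr (pb F)) :
      Subgroup (ProjectiveSpecialLinearGroup (Fin 3) F)), e.symm x ∈ E₀ := fun x hx => by
    rw [hE₀]; exact ⟨x, hx, rfl⟩
  have hcard := cent_le_aux S hc hF hw hw1 e ((Subgroup.centralizer (E : Set H)).map (MulAut.conj (g : H)).toMonoidHom)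
    (hcom _ (hin _ (Subgroup.mem_sup_left (Subgroup.mem_zpowers _)))) (hcom _ (hin _ (Subgroup.mem_sup_right (Subgroup.mem_zpowers _))))
  rwa [← Nat.card_congr ((Subgroup.centralizer (E : Set H)).equivMapOfInjective _ (MulAut.conj (g : H)).injective).toEquiv] at hcard

end

end Cfsg.Agent.H100.EL
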